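import Mathlib

/-!
# A going-down argument for quasi-finite maps from polynomial rings (helper29)

Main result: `eq_zero_of_X_mul_eq_algebraMap`.  Let `A` be a domain, `B` a domain over `A`,
`x : ι → B` algebraically independent over `A` (finite `ι`), and suppose that after inverting some
`r ∉ q` (`q` a prime of `B` containing `x i₀`) the ring `B` becomes integral over `A[x]`.
Then `x i₀ * b = a` with `a ∈ A` forces `a = 0`.
-/

set_option autoImplicit false
universe u

namespace Groth.Agent.Lib.Helper29.FibreDiv

open MvPolynomial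

theorem isIntegrallyClosed_mvPolynomial_fin (R : Type*) [CommRing R] [IsDomain R]
    [IsIntegrallyClosed R] (n : ℕ) : IsIntegrallyClosed (MvPolynomial (Fin n) R) := by
  induction n with
  | zero =>
    exact IsIntegrallyClosed.of_equiv (MvPolynomial.isEmptyAlgEquiv R (Fin 0)).symm.toRingEquiv
  | succ n ih =>
    exact IsIntegrallyClosed.of_equiv (MvPolynomial.finSuccEquiv R n).symm.toRingEquiv

theorem isIntegrallyClosed_mvPolynomial (R : Type*) [CommRing R] [IsDomain R]
    [IsIntegrallyClosed R] (ι : Type*) [Finite ι] : IsIntegrallyClosed (MvPolynomial ι R) := by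
  obtain ⟨n, ⟨e⟩⟩ := Finite.exists_equiv_fin ι
  have := isIntegrallyClosed_mvPolynomial_fin R n
  exact IsIntegrallyClosed.of_equiv (MvPolynomial.renameEquiv R e).symm.toRingEquiv

theorem isIntegralElem_of_comp_eq {R S T U : Type*} [CommRing R] [CommRing S] [CommRing T]
    [CommRing U] (f : R →+* S) (g : S →+* U) (φ : R →+* T) (ψ : T →+* U)
    (h : g.comp f = ψ.comp φ) {s : S} (hs : f.IsIntegralElem s) : ψ.IsIntegralElem (g s) := by
  have h1 := hs.map g
  rw [h] at h1
  exact h1.of_comp

/-- Going down from a prime of `S` to the integral closure of an integrally closed domain `R`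
in `S`. -/
theorem exists_prime_integralClosure_le_comap {R S : Type*} [CommRing R] [CommRing S]
    [IsDomain R] [IsDomain S] [IsIntegrallyClosed R] [Algebra R S]
    (hinj : Function.Injective (algebraMap R S)) (Q : Ideal S) [Q.IsPrime]
    (p : Ideal R) [p.IsPrime] (hpQ : p ≤ Q.under R) :
    ∃ P : Ideal (integralClosure R S), P.IsPrime ∧
      P ≤ Q.comap (algebraMap (integralClosure R S) S) ∧ P.under R = p := by
  have hfaith : FaithfulSMul R (integralClosure R S) := by
    rw [faithfulSMul_iff_algebraMap_injective]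
    intro a a' haa
    apply hinj
    exact congrArg Subtype.val haa
  have hGD : Algebra.HasGoingDown R (integralClosure R S) := inferInstance
  have hQ' : (Q.comap (algebraMap (integralClosure R S) S)).IsPrime := inferInstance
  have hle : p ≤ (Q.comap (algebraMap (integralClosure R S) S)).under R := by
    intro a ha
    have := hpQ ha
    simpa [Ideal.under, Ideal.mem_comap] using this
  obtain ⟨P, hPQ, hP, hPp⟩ := Ideal.exists_ideal_le_liesOver_of_le
    (p := p) (q := (Q.comap (algebraMap (integralClosure R S) S)).under R)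
    (Q.comap (algebraMap (integralClosure R S) S)) hle
  exact ⟨P, hP, hPQ, hPp.over.symm⟩

/-- Core going-down argument: `At` integrally closed, `xt` algebraically independent over `At`,
`r, y` integral over `At[xt]`, `r ∉ Q ∋ xt i₀` and `r ^ m * a = xt i₀ * y` with `a ∈ At`
forces `a = 0`. -/
theorem eq_zero_of_pow_mul_eq_X_mul
    {At : Type*} [CommRing At] [IsDomain At] [IsIntegrallyClosed At] {ι : Type*} [Finite ι]
    {Bt : Type*} [CommRing Bt] [IsDomain Bt] [Algebra At Bt]
    (xt : ι → Bt) (hxt : AlgebraicIndependent At xt)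
    (Q : Ideal Bt) [Q.IsPrime] (r : Bt) (hrQ : r ∉ Q)
    (hr : (aeval xt : MvPolynomial ι At →ₐ[At] Bt).toRingHom.IsIntegralElem r)
    (i₀ : ι) (hi₀ : xt i₀ ∈ Q) (a : At) (y : Bt)
    (hy : (aeval xt : MvPolynomial ι At →ₐ[At] Bt).toRingHom.IsIntegralElem y) (m : ℕ)
    (hab : r ^ m * algebraMap At Bt a = xt i₀ * y) : a = 0 := by
  classical
  let ψ : MvPolynomial ι At →+* Bt := (aeval xt : MvPolynomial ι At →ₐ[At] Bt).toRingHom
  have hψ : Function.Injective ψ := hxt
  let _ : Algebra (MvPolynomial ι At) Bt := ψ.toAlgebra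
  have hAt' : IsIntegrallyClosed (MvPolynomial ι At) := isIntegrallyClosed_mvPolynomial At ι
  have hprime : (Ideal.span {(X i₀ : MvPolynomial ι At)}).IsPrime := by
    rw [Ideal.span_singleton_prime (X_ne_zero i₀)]
    exact X_prime
  have hle : Ideal.span {(X i₀ : MvPolynomial ι At)} ≤ Q.under (MvPolynomial ι At) := by
    rw [Ideal.span_singleton_le_iff_mem]
    show ψ (X i₀) ∈ Q
    simpa [ψ] using hi₀
  obtain ⟨P, hP, hPQ, hPu⟩ := exists_prime_integralClosure_le_comap hψ Q _ hle
  let rC : integralClosure (MvPolynomial ι At) Bt := ⟨r, hr⟩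
  let yC : integralClosure (MvPolynomial ι At) Bt := ⟨y, hy⟩
  have hrP : rC ∉ P := fun h => hrQ (hPQ h)
  have hXP : algebraMap (MvPolynomial ι At) (integralClosure (MvPolynomial ι At) Bt) (X i₀) ∈ P := by
    have : (X i₀ : MvPolynomial ι At) ∈ P.under _ := by
      rw [hPu]; exact Ideal.mem_span_singleton_self _
    exact this
  have heq : rC ^ m * algebraMap (MvPolynomial ι At) (integralClosure (MvPolynomial ι At) Bt) (C a)
      = algebraMap (MvPolynomial ι At) (integralClosure (MvPolynomial ι At) Bt) (X i₀) * yC := by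
    apply Subtype.ext
    show r ^ m * ψ (C a) = ψ (X i₀) * y
    simpa [ψ] using hab
  have hCa : algebraMap (MvPolynomial ι At) (integralClosure (MvPolynomial ι At) Bt) (C a) ∈ P := by
    have h1 : rC ^ m * algebraMap (MvPolynomial ι At) (integralClosure (MvPolynomial ι At) Bt) (C a)
        ∈ P := by
      rw [heq]; exact P.mul_mem_right _ hXP
    exact (hP.mem_or_mem h1).resolve_left (fun h => hrP (hP.mem_of_pow_mem _ h))
  have hCa' : (C a : MvPolynomial ι At) ∈ Ideal.span {(X i₀ : MvPolynomial ι At)} := by
    rw [← hPu]; exact hCa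
  rw [Ideal.mem_span_singleton] at hCa'
  obtain ⟨c, hc⟩ := hCa'
  have := congrArg constantCoeff hc
  simpa using this

/-- Variant of `eq_zero_of_pow_mul_eq_X_mul` where the base `A` is an arbitrary domain and the
target `Bt` is integrally closed: pass to the integral closure of `A` in `Bt`. -/
theorem eq_zero_of_pow_mul_eq_X_mul'
    {A : Type*} [CommRing A] [IsDomain A] {ι : Type*} [Finite ι]
    {Bt : Type*} [CommRing Bt] [IsDomain Bt] [IsIntegrallyClosed Bt] [Algebra A Bt]
    (xt : ι → Bt) (hxt : AlgebraicIndependent A xt)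
    (Q : Ideal Bt) [Q.IsPrime] (r : Bt) (hrQ : r ∉ Q)
    (hr : (aeval xt : MvPolynomial ι A →ₐ[A] Bt).toRingHom.IsIntegralElem r)
    (i₀ : ι) (hi₀ : xt i₀ ∈ Q) (a : A) (y : Bt)
    (hy : (aeval xt : MvPolynomial ι A →ₐ[A] Bt).toRingHom.IsIntegralElem y) (m : ℕ)
    (hab : r ^ m * algebraMap A Bt a = xt i₀ * y) : a = 0 := by
  classical
  have hAt : IsIntegrallyClosed (integralClosure A Bt) :=
    IsIntegrallyClosed.of_isIntegrallyClosed_of_isIntegrallyClosedIn (integralClosure A Bt) Bt
  have hxt' : AlgebraicIndependent (integralClosure A Bt) xt := hxt.integralClosure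
  have hcomp : (RingHom.id Bt).comp (aeval xt : MvPolynomial ι A →ₐ[A] Bt).toRingHom =
      ((aeval xt : MvPolynomial ι (integralClosure A Bt) →ₐ[integralClosure A Bt] Bt).toRingHom).comp
        (MvPolynomial.map (algebraMap A (integralClosure A Bt))) := by
    apply MvPolynomial.ringHom_ext
    · intro c
      simp [← IsScalarTower.algebraMap_apply]
    · intro i
      simp
  have hr2 := isIntegralElem_of_comp_eq _ _ _ _ hcomp hr
  have hy2 := isIntegralElem_of_comp_eq _ _ _ _ hcomp hy
  have h0 : algebraMap A (integralClosure A Bt) a = 0 := by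
    refine eq_zero_of_pow_mul_eq_X_mul xt hxt' Q r hrQ hr2 i₀ hi₀ _ y hy2 m ?_
    rw [← IsScalarTower.algebraMap_apply]
    exact hab
  have hinj : Function.Injective (algebraMap A Bt) := hxt.algebraMap_injective
  apply hinj
  rw [IsScalarTower.algebraMap_apply A (integralClosure A Bt) Bt, h0, map_zero, map_zero]

/-- **Main going-down lemma.**  Let `A` be a domain, `B` a domain over `A`, `x : ι → B`
algebraically independent over `A`, `q` a prime of `B` with `x i₀ ∈ q`, and `r ∉ q` such that
`r` and `r ^ m * b` are integral over `A[x]`.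
If `x i₀ * b` lies in the image of `A`, then it is zero. -/
theorem eq_zero_of_X_mul_eq_algebraMap
    {A : Type*} [CommRing A] [IsDomain A] {ι : Type*} [Finite ι]
    {B : Type*} [CommRing B] [IsDomain B] [Algebra A B]
    (x : ι → B) (hx : AlgebraicIndependent A x)
    (q : Ideal B) [q.IsPrime] (r : B) (hrq : r ∉ q)
    (hr : (aeval x : MvPolynomial ι A →ₐ[A] B).toRingHom.IsIntegralElem r)
    (i₀ : ι) (hi₀ : x i₀ ∈ q) (a : A) (b : B) (m : ℕ)
    (hm : (aeval x : MvPolynomial ι A →ₐ[A] B).toRingHom.IsIntegralElem (r ^ m * b))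
    (hab : x i₀ * b = algebraMap A B a) : a = 0 := by
  classical
  have hBt : IsIntegrallyClosed (integralClosure B (FractionRing B)) :=
    IsIntegrallyClosed.of_isIntegrallyClosed_of_isIntegrallyClosedIn
      (integralClosure B (FractionRing B)) (FractionRing B)
  have hBBt : Function.Injective (algebraMap B (integralClosure B (FractionRing B))) :=
    FaithfulSMul.algebraMap_injective B _
  have hxt : AlgebraicIndependent A
      (fun i => algebraMap B (integralClosure B (FractionRing B)) (x i)) := by
    have := hx.map' (f := IsScalarTower.toAlgHom A B (integralClosure B (FractionRing B))) hBBt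
    exact this
  obtain ⟨Q, -, hQ, hQq⟩ := Ideal.exists_ideal_over_prime_of_isIntegral q
    (⊥ : Ideal (integralClosure B (FractionRing B)))
    (by rw [← RingHom.ker_eq_comap_bot, (RingHom.injective_iff_ker_eq_bot _).mp hBBt]; exact bot_le)
  have hmem : ∀ z : B, algebraMap B (integralClosure B (FractionRing B)) z ∈ Q ↔ z ∈ q := by
    intro z; rw [← hQq]; rfl
  have hcomp : (algebraMap B (integralClosure B (FractionRing B))).comp
      (aeval x : MvPolynomial ι A →ₐ[A] B).toRingHom =
      ((aeval (fun i => algebraMap B (integralClosure B (FractionRing B)) (x i)) :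
        MvPolynomial ι A →ₐ[A] (integralClosure B (FractionRing B))).toRingHom).comp
        (RingHom.id _) := by
    apply MvPolynomial.ringHom_ext
    · intro c
      simp [← IsScalarTower.algebraMap_apply]
    · intro i
      simp
  have hr2 := isIntegralElem_of_comp_eq _ _ _ _ hcomp hr
  have hy2 := isIntegralElem_of_comp_eq _ _ _ _ hcomp hm
  refine eq_zero_of_pow_mul_eq_X_mul' _ hxt Q _ ((hmem r).not.mpr hrq) hr2 i₀
    ((hmem _).mpr hi₀) a _ hy2 m ?_
  rw [IsScalarTower.algebraMap_apply A B (integralClosure B (FractionRing B)), ← hab]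
  simp only [map_mul, map_pow]
  ring

end Groth.Agent.Lib.Helper29.FibreDiv
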