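import Mathlib

/-!
# Parameters cutting out the closed point of a Noetherian local fibre (helper29)
-/

set_option autoImplicit false
universe u

namespace Groth.Agent.Lib.Helper29.FibreDiv

open Module Pointwise in
theorem ringKrullDim_quotient_span_singleton_succ_le_of_notMem_minimalPrimes {R : Type*}
    [CommRing R] {x : R} (hx : ∀ p ∈ minimalPrimes R, x ∉ p) :
    ringKrullDim (R ⧸ Ideal.span {x}) + 1 ≤ ringKrullDim R := by
  have h : Ideal.span {x} = x • (⊤ : Ideal R) := by simp [← Submodule.ideal_span_singleton_smul]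
  rw [ringKrullDim_eq_of_ringEquiv (Ideal.quotientEquivAlgOfEq R h).toRingEquiv]
  have := Module.supportDim_quotSMulTop_succ_le_of_notMem_minimalPrimes (R := R) (M := R) (x := x)
    (by
      intro p hp
      apply hx p
      simpa [minimalPrimes, Module.annihilator_eq_bot.mpr] using hp)
  rwa [supportDim_quotient_eq_ringKrullDim, supportDim_self_eq_ringKrullDim] at this

open IsLocalRing in
/-- Let `B` be a local ring, `I` a proper ideal with `B ⧸ I` Noetherian of dimension `≤ d`, and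
`g ∈ 𝔪` avoiding the minimal primes over `I`. Then there are `k ≤ d - 1` elements `z i ∈ 𝔪` such
that `𝔪` is the only prime containing `I`, `g` and the `z i`. -/
theorem exists_params_of_notMem_minimalPrimes {B : Type*} [CommRing B] [IsLocalRing B]
    (I : Ideal B) (hI : I ≠ ⊤) [IsNoetherianRing (B ⧸ I)] (g : B) (hg : g ∈ maximalIdeal B)
    (hmin : ∀ q ∈ I.minimalPrimes, g ∉ q) (d : ℕ) (hd : ringKrullDim (B ⧸ I) ≤ d) :
    ∃ (k : ℕ) (z : Fin k → B), k + 1 ≤ d ∧ (∀ i, z i ∈ maximalIdeal B) ∧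
      ∀ P : Ideal B, P.IsPrime → I ≤ P → g ∈ P → (∀ i, z i ∈ P) → P = maximalIdeal B := by
  classical
  have hIm : I ≤ maximalIdeal B := IsLocalRing.le_maximalIdeal hI
  have hJm : I ⊔ Ideal.span {g} ≤ maximalIdeal B :=
    sup_le hIm ((Ideal.span_singleton_le_iff_mem _).mpr hg)
  have hJtop : I ⊔ Ideal.span {g} ≠ ⊤ := fun h => (maximalIdeal.isMaximal B).ne_top
    (top_le_iff.mp (h ▸ hJm))
  have : Nontrivial (B ⧸ (I ⊔ Ideal.span {g})) := Ideal.Quotient.nontrivial_iff.mpr hJtop
  have hloc : IsLocalRing (B ⧸ (I ⊔ Ideal.span {g})) :=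
    IsLocalRing.of_surjective' (Ideal.Quotient.mk _) Ideal.Quotient.mk_surjective
  have hnoeth : IsNoetherianRing (B ⧸ (I ⊔ Ideal.span {g})) :=
    isNoetherianRing_of_surjective (B ⧸ I) _ (Ideal.Quotient.factor le_sup_left)
      (Ideal.Quotient.factor_surjective le_sup_left)
  -- dimension drop
  have hdim : ringKrullDim (B ⧸ (I ⊔ Ideal.span {g})) + 1 ≤ ringKrullDim (B ⧸ I) := by
    have hmap : (Ideal.span {g}).map (Ideal.Quotient.mk I) = Ideal.span {Ideal.Quotient.mk I g} := by
      rw [Ideal.map_span, Set.image_singleton]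
    have e := DoubleQuot.quotQuotEquivQuotSup I (Ideal.span {g})
    rw [← ringKrullDim_eq_of_ringEquiv e, ringKrullDim_eq_of_ringEquiv
      (Ideal.quotEquivOfEq hmap)]
    apply ringKrullDim_quotient_span_singleton_succ_le_of_notMem_minimalPrimes
    intro p hp hgp
    refine hmin (p.comap (Ideal.Quotient.mk I)) ?_ hgp
    rw [Ideal.minimalPrimes_eq_comap]
    exact ⟨p, hp, rfl⟩
  obtain ⟨s, hs, hcard⟩ := Ideal.exists_finset_card_eq_height_of_isNoetherianRing
    (maximalIdeal (B ⧸ (I ⊔ Ideal.span {g})))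
  have hk : s.card + 1 ≤ d := by
    have h1 : ((s.card : ℕ∞) : WithBot ℕ∞) + 1 ≤ (d : WithBot ℕ∞) := by
      rw [hcard, IsLocalRing.maximalIdeal_height_eq_ringKrullDim]
      exact hdim.trans hd
    exact_mod_cast h1
  have hsurj := Ideal.Quotient.mk_surjective (I := I ⊔ Ideal.span {g})
  let z : Fin s.card → B := fun i => Classical.choose (hsurj (s.equivFin.symm i : B ⧸ _))
  have hz : ∀ i, Ideal.Quotient.mk (I ⊔ Ideal.span {g}) (z i) = (s.equivFin.symm i : B ⧸ _) :=
    fun i => Classical.choose_spec (hsurj (s.equivFin.symm i : B ⧸ _))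
  have hzs : ∀ i, Ideal.Quotient.mk (I ⊔ Ideal.span {g}) (z i) ∈ Ideal.span (s : Set (B ⧸ _)) :=
    fun i => Ideal.subset_span (by rw [hz]; exact (s.equivFin.symm i).2)
  refine ⟨s.card, z, hk, ?_, ?_⟩
  · intro i
    by_contra hzi
    have hu : IsUnit (z i) := by
      by_contra h
      exact hzi ((IsLocalRing.mem_maximalIdeal _).mpr h)
    have hu' : IsUnit (Ideal.Quotient.mk (I ⊔ Ideal.span {g}) (z i)) := hu.map _
    exact (IsLocalRing.mem_maximalIdeal _).mp (hs.1.2 (hzs i)) hu'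
  · intro P hP hIP hgP hzP
    have hJP : I ⊔ Ideal.span {g} ≤ P := sup_le hIP ((Ideal.span_singleton_le_iff_mem _).mpr hgP)
    have hker : RingHom.ker (Ideal.Quotient.mk (I ⊔ Ideal.span {g})) ≤ P := by
      rw [Ideal.mk_ker]; exact hJP
    have hP' : (P.map (Ideal.Quotient.mk (I ⊔ Ideal.span {g}))).IsPrime :=
      Ideal.map_isPrime_of_surjective hsurj hker
    have hsP' : Ideal.span (s : Set (B ⧸ _)) ≤ P.map (Ideal.Quotient.mk (I ⊔ Ideal.span {g})) := by
      rw [Ideal.span_le]
      intro σ hσ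
      have : σ = Ideal.Quotient.mk (I ⊔ Ideal.span {g}) (z (s.equivFin ⟨σ, hσ⟩)) := by
        rw [hz]; simp
      rw [this]
      exact Ideal.mem_map_of_mem _ (hzP _)
    have hle : P.map (Ideal.Quotient.mk (I ⊔ Ideal.span {g})) ≤ maximalIdeal _ :=
      IsLocalRing.le_maximalIdeal hP'.ne_top
    have heq : P.map (Ideal.Quotient.mk (I ⊔ Ideal.span {g})) = maximalIdeal _ :=
      le_antisymm hle (hs.2 ⟨hP', hsP'⟩ hle)
    have hcm : (P.map (Ideal.Quotient.mk (I ⊔ Ideal.span {g}))).comap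
        (Ideal.Quotient.mk (I ⊔ Ideal.span {g})) = P := by
      rw [Ideal.comap_map_of_surjective _ hsurj, ← RingHom.ker_eq_comap_bot]
      exact sup_eq_left.mpr hker
    rw [← hcm, heq]
    have : ((maximalIdeal (B ⧸ (I ⊔ Ideal.span {g}))).comap
        (Ideal.Quotient.mk (I ⊔ Ideal.span {g}))).IsMaximal :=
      Ideal.comap_isMaximal_of_surjective _ hsurj
    exact IsLocalRing.eq_maximalIdeal this

end Groth.Agent.Lib.Helper29.FibreDiv
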