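import Mathlib

/-!
# Quasi-finiteness at a prime which is isolated in its fibre, order-theoretic form (helper29)
-/

set_option autoImplicit false
universe u

namespace Groth.Agent.Lib.Helper29.FibreDiv

open Polynomial

theorem quasiFiniteAt_of_isMax_isMin_aux {R S : Type*} [CommRing R] [CommRing S] [Algebra R S]
    [Algebra.FiniteType R S] (q : PrimeSpectrum S)
    (hmax : ∀ q' : PrimeSpectrum S, q'.comap (algebraMap R S) = q.comap (algebraMap R S) →
      q ≤ q' → q' = q)
    (hmin : ∀ q' : PrimeSpectrum S, q'.comap (algebraMap R S) = q.comap (algebraMap R S) →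
      q' ≤ q → q' = q) :
    Algebra.QuasiFiniteAt R q.asIdeal := by
  let p := q.comap (algebraMap R S)
  let e := PrimeSpectrum.preimageHomeomorphFiber R S p
  let eo := PrimeSpectrum.preimageOrderIsoFiber R S p
  suffices Algebra.QuasiFiniteAt p.asIdeal.ResidueField (e ⟨q, rfl⟩).asIdeal from
    .of_quasiFiniteAt_residueField _ q.asIdeal (e ⟨q, rfl⟩).asIdeal
      congr($(e.symm_apply_apply ⟨q, rfl⟩).1.asIdeal)
  refine .of_isOpen_singleton _ ?_
  have : IsNoetherianRing (p.asIdeal.Fiber S) :=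
    Algebra.FiniteType.isNoetherianRing p.asIdeal.ResidueField _
  have : IsJacobsonRing (p.asIdeal.Fiber S) :=
    isJacobsonRing_of_finiteType (A := p.asIdeal.ResidueField)
  refine ((PrimeSpectrum.isOpen_singleton_tfae_of_isNoetherian_of_isJacobsonRing
    (e ⟨q, rfl⟩)).out 0 2 rfl rfl).mpr ?_
  constructor
  · rw [PrimeSpectrum.isClosed_singleton_iff_isMaximal, ← PrimeSpectrum.isMax_iff]
    change IsMax (eo ⟨q, rfl⟩)
    rw [OrderIso.isMax_apply]
    rintro ⟨Q', hQ'⟩ hle
    have h2 : Q' = q := hmax Q' hQ' hle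
    exact le_of_eq (Subtype.ext h2)
  · rw [PrimeSpectrum.stableUnderGeneralization_singleton, ← PrimeSpectrum.isMin_iff]
    change IsMin (eo ⟨q, rfl⟩)
    rw [OrderIso.isMin_apply]
    rintro ⟨Q', hQ'⟩ hle
    have h2 : Q' = q := hmin Q' hQ' hle
    exact le_of_eq (Subtype.ext h2).symm

/-- A prime `q` of a finite type `R`-algebra `S` which is both maximal and minimal among the primes
of its fibre is quasi-finite over `R`. -/
theorem quasiFiniteAt_of_isMax_isMin {R S : Type*} [CommRing R] [CommRing S] [Algebra R S]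
    [Algebra.FiniteType R S] (q : Ideal S) [hq : q.IsPrime]
    (hmax : ∀ q' : Ideal S, q'.IsPrime → q'.under R = q.under R → q ≤ q' → q' = q)
    (hmin : ∀ q' : Ideal S, q'.IsPrime → q'.under R = q.under R → q' ≤ q → q' = q) :
    Algebra.QuasiFiniteAt R q := by
  refine quasiFiniteAt_of_isMax_isMin_aux (R := R) (⟨q, hq⟩ : PrimeSpectrum S) ?_ ?_
  · intro Q' hQ' hle
    exact PrimeSpectrum.ext (hmax Q'.asIdeal Q'.2 (congrArg PrimeSpectrum.asIdeal hQ') hle)
  · intro Q' hQ' hle
    exact PrimeSpectrum.ext (hmin Q'.asIdeal Q'.2 (congrArg PrimeSpectrum.asIdeal hQ') hle)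

/-- If `S/q` is algebraic over `R/(q ∩ R)` (expressed via polynomials), then `q` is maximal in its
fibre. -/
theorem eq_of_le_of_comap_eq_of_algebraic {R S : Type*} [CommRing R] [CommRing S] (φ : R →+* S)
    (q q' : Ideal S) [q.IsPrime] (hle : q ≤ q') (hcomap : q'.comap φ = q.comap φ)
    (halg : ∀ t : S, ∃ p : R[X], (∃ i, φ (p.coeff i) ∉ q) ∧ p.eval₂ φ t ∈ q) : q' = q := by
  by_contra hne
  obtain ⟨t, htq', htq⟩ : ∃ t ∈ q', t ∉ q := by
    by_contra h
    push Not at h
    exact hne (le_antisymm h hle)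
  obtain ⟨p, ⟨i, hi⟩, hp⟩ := halg t
  have hp0 : p.map (Ideal.Quotient.mk (q.comap φ)) ≠ 0 := by
    intro h
    have := congrArg (fun P => P.coeff i) h
    simp only [Polynomial.coeff_map, Polynomial.coeff_zero, Ideal.Quotient.eq_zero_iff_mem,
      Ideal.mem_comap] at this
    exact hi this
  obtain ⟨j, hj⟩ :=
    Ideal.exists_coeff_mem_comap_sdiff_comap_of_root_mem_sdiff hle ⟨htq', htq⟩ hp0 hp
  rw [hcomap] at hj
  exact hj.2 hj.1

/-- In an extension of domains, if `s ≠ 0` and `s * y` are algebraic, so is `y`. -/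
theorem isAlgebraic_of_mul_isAlgebraic {R S : Type*} [CommRing R] [CommRing S] [IsDomain R]
    [IsDomain S] [Algebra R S] [FaithfulSMul R S] {s y : S} (hs0 : s ≠ 0) (hs : IsAlgebraic R s)
    (hsy : IsAlgebraic R (s * y)) : IsAlgebraic R y := by
  let K := FractionRing S
  let _ := FractionRing.liftAlgebra R K
  have hinj : Function.Injective (algebraMap S K) := IsFractionRing.injective S K
  rw [← isAlgebraic_algebraMap_iff hinj (R := R)] at hs hsy ⊢
  rw [IsFractionRing.isAlgebraic_iff R (FractionRing R) K] at hs hsy ⊢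
  have h0 : algebraMap S K s ≠ 0 := by
    rwa [Ne, map_eq_zero_iff _ hinj]
  have : algebraMap S K y = (algebraMap S K s)⁻¹ * algebraMap S K (s * y) := by
    rw [map_mul, ← mul_assoc, inv_mul_cancel₀ h0, one_mul]
  rw [this]
  exact hs.inv.mul hsy

/-- Zariski's main theorem at a prime which is isolated in its fibre, in `RingHom` form. -/
theorem exists_notMem_isIntegralElem {R S : Type*} [CommRing R] [CommRing S] (φ : R →+* S)
    (hft : φ.FiniteType) (q : Ideal S) [q.IsPrime]
    (hmax : ∀ q' : Ideal S, q'.IsPrime → q'.comap φ = q.comap φ → q ≤ q' → q' = q)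
    (hmin : ∀ q' : Ideal S, q'.IsPrime → q'.comap φ = q.comap φ → q' ≤ q → q' = q) :
    ∃ r ∉ q, φ.IsIntegralElem r ∧ ∀ y, ∃ m, φ.IsIntegralElem (r ^ m * y) := by
  let _ : Algebra R S := φ.toAlgebra
  have : Algebra.FiniteType R S := hft
  have hqf : Algebra.QuasiFiniteAt R q := quasiFiniteAt_of_isMax_isMin q hmax hmin
  exact Algebra.zariskisMainProperty_iff.mp (Algebra.ZariskisMainProperty.of_finiteType q)

end Groth.Agent.Lib.Helper29.FibreDiv
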