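import Mathlib
import Groth.Agent.Lib.Helper29.FibreDiv.GoingDown
import Groth.Agent.Lib.Helper29.FibreDiv.QuasiFinite
import Groth.Agent.Lib.Helper29.FibreDiv.Params

/-!
# The local core of Stacks 0B2I/0B2J (helper29)

`A → B` a local homomorphism of local domains, essentially of finite type, `g ∈ 𝔪_B` not in any
minimal prime over `𝔪_A B`, and `dim (B/𝔪_A B) + trdeg κ(B)/κ(A) ≤ trdeg_A B`.
Then `A → B/gB` is injective.
-/

set_option autoImplicit false
universe u

namespace Groth.Agent.Lib.Helper29.FibreDiv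

open IsLocalRing MvPolynomial Cardinal

section core3

variable {A B : Type u} [CommRing A] [CommRing B] [IsDomain A] [IsDomain B] [IsLocalRing A]
  [IsLocalRing B] [Algebra A B] [IsLocalHom (algebraMap A B)] [FaithfulSMul A B]

theorem core3 {ι : Type} [Finite ι] (x : ι → B) (V : Set ι)
    (hV : ∀ i ∈ V, x i ∈ maximalIdeal B)
    (hP : ∀ P : Ideal B, P.IsPrime → Ideal.map (algebraMap A B) (maximalIdeal A) ≤ P →
      (∀ i ∈ V, x i ∈ P) → P = maximalIdeal B)
    (halg : ∀ τ : ResidueField B, ∃ p : Polynomial (MvPolynomial ι A),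
      p.map ((residue B).comp (aeval x : MvPolynomial ι A →ₐ[A] B).toRingHom) ≠ 0 ∧
      p.eval₂ ((residue B).comp (aeval x : MvPolynomial ι A →ₐ[A] B).toRingHom) τ = 0)
    (hcard : Cardinal.lift.{u} #ι ≤ Cardinal.lift.{0} (Algebra.trdeg A B))
    (B₀ : Subalgebra A B) (hfg : B₀.FG)
    (hloc : ∀ s : B, ∃ t ∈ B₀, IsUnit t ∧ s * t ∈ B₀) (hx : ∀ i, x i ∈ B₀)
    (i₀ : ι) (hi₀ : i₀ ∈ V) (a : A) (b : B) (hb : b ∈ B₀)
    (hab : x i₀ * b = algebraMap A B a) : a = 0 := by
  classical
  have hft : Algebra.FiniteType A B₀ := (Subalgebra.fg_iff_finiteType B₀).mp hfg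
  obtain ⟨q₀, hq₀⟩ : ∃ q₀ : Ideal B₀, q₀ = (maximalIdeal B).comap (algebraMap B₀ B) := ⟨_, rfl⟩
  have hq₀mem : ∀ w : B₀, w ∈ q₀ ↔ (w : B) ∈ maximalIdeal B := fun w => by rw [hq₀]; rfl
  have hq₀prime : q₀.IsPrime := by rw [hq₀]; infer_instance
  have hlocz : IsLocalization.AtPrime B q₀ := by
    rw [IsLocalization.AtPrime, isLocalization_iff]
    refine ⟨?_, ?_, ?_⟩
    · rintro ⟨w, hw⟩
      have : (w : B) ∉ maximalIdeal B := fun h => hw ((hq₀mem w).mpr h)
      simpa [IsLocalRing.mem_maximalIdeal] using this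
    · intro s
      obtain ⟨t, ht, htu, hst⟩ := hloc s
      refine ⟨(⟨s * t, hst⟩, ⟨⟨t, ht⟩, ?_⟩), rfl⟩
      intro h
      exact (IsLocalRing.mem_maximalIdeal _).mp ((hq₀mem _).mp h) htu
    · intro w w' hww
      exact ⟨1, by rw [Subtype.ext hww]⟩
  -- the family `x` inside `B₀`
  let x₀ : ι → B₀ := fun i => ⟨x i, hx i⟩
  let φ : MvPolynomial ι A →+* B₀ := (aeval x₀ : MvPolynomial ι A →ₐ[A] B₀).toRingHom
  have hφX : ∀ i, φ (X i) = x₀ i := fun i => by simp [φ]
  have hφC : ∀ c, φ (C c) = algebraMap A B₀ c := fun c => by simp [φ]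
  have hcompφ : (algebraMap B₀ B).comp φ = (aeval x : MvPolynomial ι A →ₐ[A] B).toRingHom := by
    apply MvPolynomial.ringHom_ext
    · intro c
      simp [φ]
    · intro i
      simp [φ, x₀]
  have hφft : φ.FiniteType := by
    have : Algebra.FiniteType A B₀ := hft
    exact RingHom.FiniteType.of_comp_finiteType (f := (algebraMap A (MvPolynomial ι A)))
      (by
        have h1 : φ.comp (algebraMap A (MvPolynomial ι A)) = algebraMap A B₀ := by
          ext c; simp [φ, algebraMap_eq]
        rw [h1]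
        exact RingHom.finiteType_algebraMap.mpr hft)
  have hIm : Ideal.map (algebraMap A B) (maximalIdeal A) ≤ maximalIdeal B :=
    ((IsLocalRing.local_hom_TFAE (algebraMap A B)).out 0 2).mp ‹_›
  -- membership of generators of the fibre ideal
  have hCmem : ∀ c ∈ maximalIdeal A, C c ∈ q₀.comap φ := by
    intro c hc
    rw [Ideal.mem_comap, hφC, hq₀mem]
    exact hIm (Ideal.mem_map_of_mem _ hc)
  have hXmem : ∀ i ∈ V, (X i : MvPolynomial ι A) ∈ q₀.comap φ := by
    intro i hi
    rw [Ideal.mem_comap, hφX, hq₀mem]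
    exact hV i hi
  -- minimality of `q₀` in its fibre
  have hmin' : ∀ q' : Ideal B₀, q'.IsPrime → q'.comap φ = q₀.comap φ → q' ≤ q₀ → q' = q₀ := by
    intro q' hq' hcomap hle
    have hPprime : (q'.map (algebraMap B₀ B)).IsPrime :=
      Ideal.isPrime_map_of_isLocalizationAtPrime q₀ hle
    have hPunder : (q'.map (algebraMap B₀ B)).under B₀ = q' :=
      Ideal.under_map_of_isLocalizationAtPrime q₀ hle
    have hPeq : q'.map (algebraMap B₀ B) = maximalIdeal B := by
      refine hP _ hPprime ?_ ?_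
      · rw [Ideal.map_le_iff_le_comap]
        intro c hc
        have h1 : C c ∈ q'.comap φ := hcomap ▸ hCmem c hc
        rw [Ideal.mem_comap, hφC] at h1
        have h2 := Ideal.mem_map_of_mem (algebraMap B₀ B) h1
        rwa [← IsScalarTower.algebraMap_apply] at h2
      · intro i hi
        have h1 : (X i : MvPolynomial ι A) ∈ q'.comap φ := hcomap ▸ hXmem i hi
        rw [Ideal.mem_comap, hφX] at h1
        exact Ideal.mem_map_of_mem (algebraMap B₀ B) h1
    rw [← hPunder, hPeq, hq₀]
  -- maximality of `q₀` in its fibre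
  have hρ : (residue B).comp (aeval x : MvPolynomial ι A →ₐ[A] B).toRingHom =
      ((residue B).comp (algebraMap B₀ B)).comp φ := by
    rw [RingHom.comp_assoc, hcompφ]
  have halg' : ∀ t : B₀, ∃ p : Polynomial (MvPolynomial ι A),
      (∃ i, φ (p.coeff i) ∉ q₀) ∧ p.eval₂ φ t ∈ q₀ := by
    intro t
    obtain ⟨p, hp0, hp⟩ := halg (residue B (t : B))
    rw [hρ] at hp0 hp
    refine ⟨p, ?_, ?_⟩
    · by_contra hcon
      push Not at hcon
      apply hp0
      ext n
      rw [Polynomial.coeff_map, Polynomial.coeff_zero]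
      have := (hq₀mem _).mp (hcon n)
      simpa using this
    · rw [hq₀mem]
      have h1 : residue B ((algebraMap B₀ B) (p.eval₂ φ t)) = 0 := by
        have := Polynomial.hom_eval₂ p φ ((residue B).comp (algebraMap B₀ B)) t
        rw [RingHom.comp_apply] at this
        rw [this]
        exact hp
      exact (IsLocalRing.residue_eq_zero_iff _).mp h1
  have hmax' : ∀ q' : Ideal B₀, q'.IsPrime → q'.comap φ = q₀.comap φ → q₀ ≤ q' → q' = q₀ := by
    intro q' _ hcomap hle
    exact eq_of_le_of_comap_eq_of_algebraic φ q₀ q' hle hcomap halg'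
  -- Zariski's main theorem
  obtain ⟨r, hrq, hr, hr'⟩ := exists_notMem_isIntegralElem φ hφft q₀ hmax' hmin'
  have hrB : (r : B) ∉ maximalIdeal B := fun h => hrq ((hq₀mem r).mpr h)
  have hr0 : (r : B) ≠ 0 := fun h => hrB (h ▸ Ideal.zero_mem _)
  have hrint : (aeval x : MvPolynomial ι A →ₐ[A] B).toRingHom.IsIntegralElem (r : B) := by
    rw [← hcompφ]
    exact hr.map (algebraMap B₀ B)
  have hrint' : ∀ w : B₀, ∃ m,
      (aeval x : MvPolynomial ι A →ₐ[A] B).toRingHom.IsIntegralElem ((r : B) ^ m * (w : B)) := by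
    intro w
    obtain ⟨m, hm⟩ := hr' w
    refine ⟨m, ?_⟩
    rw [← hcompφ]
    exact hm.map (algebraMap B₀ B)
  -- `B` is algebraic over `A[x]`
  have hrange : Algebra.adjoin A (Set.range x) = (aeval x : MvPolynomial ι A →ₐ[A] B).range :=
    Algebra.adjoin_range_eq_range_aeval A x
  have hKalg : Algebra.IsAlgebraic (Algebra.adjoin A (Set.range x)) B := by
    rw [hrange]
    have hint : ∀ β : B, (aeval x : MvPolynomial ι A →ₐ[A] B).toRingHom.IsIntegralElem β →
        IsIntegral (aeval x : MvPolynomial ι A →ₐ[A] B).range β := by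
      intro β hβ
      exact isIntegralElem_of_comp_eq (aeval x : MvPolynomial ι A →ₐ[A] B).toRingHom
        (RingHom.id B) (aeval x : MvPolynomial ι A →ₐ[A] B).rangeRestrict.toRingHom
        (algebraMap _ B) (by ext <;> rfl) hβ
    have hw : ∀ w : B₀, IsAlgebraic (aeval x : MvPolynomial ι A →ₐ[A] B).range (w : B) := by
      intro w
      obtain ⟨m, hm⟩ := hrint' w
      exact isAlgebraic_of_mul_isAlgebraic (pow_ne_zero m hr0)
        ((hint _ hrint).pow m).isAlgebraic (hint _ hm).isAlgebraic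
    constructor
    intro β
    obtain ⟨t, ht, htu, hβt⟩ := hloc β
    refine isAlgebraic_of_mul_isAlgebraic (s := t) htu.ne_zero (hw ⟨t, ht⟩) ?_
    rw [mul_comm]
    exact hw ⟨β * t, hβt⟩
  have hxind : AlgebraicIndependent A x :=
    (Algebra.IsAlgebraic.isTranscendenceBasis_of_lift_le_trdeg_of_finite A x hcard).1
  -- going down
  obtain ⟨m, hm⟩ := hrint' ⟨b, hb⟩
  exact eq_zero_of_X_mul_eq_algebraMap x hxind (maximalIdeal B) (r : B) hrB hrint i₀
    (hV i₀ hi₀) a b m hm hab

end core3

section algres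

variable {A B : Type u} [CommRing A] [CommRing B] [IsLocalRing A]
  [IsLocalRing B] [Algebra A B] [IsLocalHom (algebraMap A B)]

theorem exists_fin_isTranscendenceBasis {K L : Type*} [Field K] [Field L] [Algebra K L] (e : ℕ)
    (he : Algebra.trdeg K L = e) : ∃ y : Fin e → L, IsTranscendenceBasis K y := by
  obtain ⟨s, hs⟩ := exists_isTranscendenceBasis K L
  have hcard : #s = e := by rw [hs.cardinalMk_eq_trdeg, he]
  obtain ⟨eq⟩ := Cardinal.mk_eq_nat_iff.mp hcard
  exact ⟨_, hs.comp_equiv eq.symm⟩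

/-- If (a subfamily of) the residues of `x` form a transcendence basis of `κ(B)/κ(A)`, every
element of `κ(B)` satisfies a polynomial over `A[X_ι]` which is nonzero modulo the kernel. -/
theorem exists_polynomial_of_isTranscendenceBasis {ι : Type} (x : ι → B) {e : ℕ}
    (y : Fin e → ResidueField B) (hy : IsTranscendenceBasis (ResidueField A) y)
    (hyx : ∀ j, ∃ i, residue B (x i) = y j) :
    ∀ τ : ResidueField B, ∃ p : Polynomial (MvPolynomial ι A),
      p.map ((residue B).comp (aeval x : MvPolynomial ι A →ₐ[A] B).toRingHom) ≠ 0 ∧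
      p.eval₂ ((residue B).comp (aeval x : MvPolynomial ι A →ₐ[A] B).toRingHom) τ = 0 := by
  intro τ
  obtain ⟨ρ, hρdef⟩ : ∃ ρ : MvPolynomial ι A →+* ResidueField B,
      ρ = (residue B).comp (aeval x : MvPolynomial ι A →ₐ[A] B).toRingHom := ⟨_, rfl⟩
  rw [← hρdef]
  have hle : ∀ w ∈ Algebra.adjoin (ResidueField A) (Set.range y), w ∈ ρ.range := by
    intro w hw
    induction hw using Algebra.adjoin_induction with
    | mem w hw =>
      obtain ⟨j, rfl⟩ := hw
      obtain ⟨i, hi⟩ := hyx j
      exact ⟨X i, by rw [hρdef]; simpa using hi⟩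
    | algebraMap c =>
      obtain ⟨c, rfl⟩ := residue_surjective c
      exact ⟨C c, by rw [hρdef]; simp⟩
    | add w w' _ _ hw hw' => exact add_mem hw hw'
    | mul w w' _ _ hw hw' => exact mul_mem hw hw'
  have halg := hy.isAlgebraic
  let incl : Algebra.adjoin (ResidueField A) (Set.range y) →+* ρ.range :=
    ((Algebra.adjoin (ResidueField A) (Set.range y)).val.toRingHom).codRestrict ρ.range
      (fun w => hle w.1 w.2)
  have hτ : IsAlgebraic ρ.range τ := by
    have h1 := (halg.isAlgebraic τ).ringHom_of_comp_eq incl (RingHom.id (ResidueField B))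
      (by
        intro w w' hww
        have h3 : (incl w : ResidueField B) = (incl w' : ResidueField B) :=
          congrArg Subtype.val hww
        exact Subtype.ext h3)
      (by ext w; rfl)
    exact h1
  obtain ⟨P, hP0, hP⟩ := hτ
  obtain ⟨p, rfl⟩ := Polynomial.map_surjective ρ.rangeRestrict ρ.rangeRestrict_surjective P
  refine ⟨p, ?_, ?_⟩
  · intro h
    apply hP0
    have h2 : (p.map ρ.rangeRestrict).map ρ.range.subtype = 0 := by
      rw [Polynomial.map_map]
      exact h
    exact (Polynomial.map_eq_zero_iff (Subtype.val_injective)).mp h2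
  · rw [Polynomial.aeval_def, Polynomial.eval₂_map] at hP
    exact hP

end algres

section final

variable {A B : Type u} [CommRing A] [CommRing B] [IsDomain A] [IsDomain B] [IsLocalRing A]
  [IsLocalRing B] [Algebra A B] [IsLocalHom (algebraMap A B)] [FaithfulSMul A B]
  [Algebra.EssFiniteType A B]

omit [IsDomain A] [IsDomain B] [FaithfulSMul A B] [IsLocalRing B] [IsLocalHom (algebraMap A B)] in
theorem isNoetherianRing_quotient_map_maximalIdeal :
    IsNoetherianRing (B ⧸ Ideal.map (algebraMap A B) (maximalIdeal A)) := by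
  have h1 : Algebra.EssFiniteType A (B ⧸ Ideal.map (algebraMap A B) (maximalIdeal A)) :=
    inferInstance
  have h2 : Algebra.EssFiniteType (A ⧸ maximalIdeal A)
      (B ⧸ Ideal.map (algebraMap A B) (maximalIdeal A)) := Algebra.EssFiniteType.of_comp A _ _
  have h3 : IsNoetherianRing (A ⧸ maximalIdeal A) :=
    inferInstanceAs (IsNoetherianRing (ResidueField A))
  exact Algebra.EssFiniteType.isNoetherianRing (A ⧸ maximalIdeal A) _

/-- **Local core.** -/
theorem eq_zero_of_mul_eq_algebraMap
    (g : B) (hg : g ∈ maximalIdeal B)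
    (hmin : ∀ q ∈ (Ideal.map (algebraMap A B) (maximalIdeal A)).minimalPrimes, g ∉ q)
    (d e : ℕ) (hd : ringKrullDim (B ⧸ Ideal.map (algebraMap A B) (maximalIdeal A)) ≤ d)
    (he : Algebra.trdeg (ResidueField A) (ResidueField B) = e)
    (hsum : ((d + e : ℕ) : Cardinal.{u}) ≤ Algebra.trdeg A B)
    (a : A) (b : B) (hab : g * b = algebraMap A B a) : a = 0 := by
  classical
  have hIm : Ideal.map (algebraMap A B) (maximalIdeal A) ≤ maximalIdeal B :=
    ((IsLocalRing.local_hom_TFAE (algebraMap A B)).out 0 2).mp ‹_›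
  have hItop : Ideal.map (algebraMap A B) (maximalIdeal A) ≠ ⊤ := fun h =>
    (maximalIdeal.isMaximal B).ne_top (top_le_iff.mp (h ▸ hIm))
  have hnoeth : IsNoetherianRing (B ⧸ Ideal.map (algebraMap A B) (maximalIdeal A)) :=
    isNoetherianRing_quotient_map_maximalIdeal
  obtain ⟨k, z, hk, hzm, hzP⟩ := exists_params_of_notMem_minimalPrimes _ hItop g hg hmin d hd
  obtain ⟨y, hy⟩ := exists_fin_isTranscendenceBasis e he
  choose y' hy' using fun j => residue_surjective (y j)
  obtain ⟨σ, hσ⟩ := (Algebra.essFiniteType_iff A B).mp ‹Algebra.EssFiniteType A B›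
  let x : Option (Fin k ⊕ Fin e) → B := fun i => Option.elim i g (Sum.elim z y')
  let V : Set (Option (Fin k ⊕ Fin e)) := {i | ∀ j, i ≠ some (Sum.inr j)}
  have hsub : (σ : Set B) ⊆ ↑σ ∪ ({b} ∪ Set.range x) := Set.subset_union_left
  refine core3 x V ?_ ?_ ?_ ?_ (Algebra.adjoin A (↑σ ∪ ({b} ∪ Set.range x))) ?_ ?_ ?_ none ?_
    a b ?_ hab
  · rintro (_ | i | j) hi
    · exact hg
    · exact hzm i
    · exact absurd rfl (hi j)
  · intro P hPp hIP hVP
    refine hzP P hPp hIP (hVP none (fun j => by simp)) (fun i => hVP (some (Sum.inl i)) ?_)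
    intro j
    simp
  · exact exists_polynomial_of_isTranscendenceBasis x y hy
      (fun j => ⟨some (Sum.inr j), hy' j⟩)
  · have h1 : #(Option (Fin k ⊕ Fin e)) = ((k + e + 1 : ℕ) : Cardinal) := by
      simp
    rw [h1, Cardinal.lift_natCast, Cardinal.lift_uzero]
    refine le_trans ?_ hsum
    exact_mod_cast (by omega : k + e + 1 ≤ d + e)
  · rw [Subalgebra.fg_def]
    refine ⟨_, ?_, rfl⟩
    exact (Finset.finite_toSet σ).union ((Set.finite_singleton b).union (Set.finite_range x))
  · intro s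
    obtain ⟨t, ht, htu, hst⟩ := hσ s
    exact ⟨t, Algebra.adjoin_mono hsub ht, htu, Algebra.adjoin_mono hsub hst⟩
  · intro i
    exact Algebra.subset_adjoin (Or.inr (Or.inr (Set.mem_range_self i)))
  · intro j
    simp
  · exact Algebra.subset_adjoin (Or.inr (Or.inl rfl))

/-- **Stacks 0B2J, local form** (with inequalities). -/
theorem injective_algebraMap_quotient_span_singleton
    (g : B) (hg : g ∈ maximalIdeal B)
    (hmin : ∀ q ∈ (Ideal.map (algebraMap A B) (maximalIdeal A)).minimalPrimes, g ∉ q)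
    (d e : ℕ) (hd : ringKrullDim (B ⧸ Ideal.map (algebraMap A B) (maximalIdeal A)) ≤ d)
    (he : Algebra.trdeg (ResidueField A) (ResidueField B) = e)
    (hsum : ((d + e : ℕ) : Cardinal.{u}) ≤ Algebra.trdeg A B) :
    Function.Injective (algebraMap A (B ⧸ Ideal.span {g})) := by
  rw [injective_iff_map_eq_zero]
  intro a ha
  rw [IsScalarTower.algebraMap_apply A B (B ⧸ Ideal.span {g}), Ideal.Quotient.algebraMap_eq,
    Ideal.Quotient.eq_zero_iff_mem, Ideal.mem_span_singleton'] at ha
  obtain ⟨b, hb⟩ := ha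
  exact eq_zero_of_mul_eq_algebraMap g hg hmin d e hd he hsum a b (by rw [mul_comm]; exact hb)

end final

end Groth.Agent.Lib.Helper29.FibreDiv
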