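import Mathlib
import Groth.Agent.Lib.Helper29.FibreDiv.Local
import Groth.Agent.Lib.Helper55.TrdegBridge

/-!
# Stacks 0B2J for local rings with irreducible spectrum (helper29)

`A₀ → B₀` local hom of local rings, essentially of finite type, `P₀` the smallest prime of `B₀`.
If `g ∈ 𝔪` avoids the minimal primes over `𝔪_{A₀} B₀` and the dimension inequality holds, there is a
prime of `B₀` containing `g` lying over `P₀ ∩ A₀`.
-/

set_option autoImplicit false
universe u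

namespace Groth.Agent.Lib.Helper29.FibreDiv

open IsLocalRing Cardinal

section stalk

variable {A₀ B₀ : Type u} [CommRing A₀] [CommRing B₀] [IsLocalRing A₀] [IsLocalRing B₀]
  [Algebra A₀ B₀] [IsLocalHom (algebraMap A₀ B₀)] [Algebra.EssFiniteType A₀ B₀]

theorem exists_prime_mem_under_eq (P₀ : Ideal B₀) [P₀.IsPrime]
    (hP₀ : ∀ Q : Ideal B₀, Q.IsPrime → P₀ ≤ Q) (g : B₀) (hg : g ∈ maximalIdeal B₀)
    (hmin : ∀ Q ∈ (Ideal.map (algebraMap A₀ B₀) (maximalIdeal A₀)).minimalPrimes, g ∉ Q)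
    (d e : ℕ)
    (hd : ringKrullDim (B₀ ⧸ Ideal.map (algebraMap A₀ B₀) (maximalIdeal A₀)) ≤ d)
    (he : Algebra.trdeg (ResidueField A₀) (ResidueField B₀) = e)
    (hsum : ((d + e : ℕ) : Cardinal.{u}) ≤ Algebra.trdeg (A₀ ⧸ P₀.under A₀) (B₀ ⧸ P₀)) :
    ∃ P : Ideal B₀, P.IsPrime ∧ g ∈ P ∧ P.under A₀ = P₀.under A₀ := by
  classical
  have hP₀m : P₀ ≤ maximalIdeal B₀ := IsLocalRing.le_maximalIdeal (Ideal.IsPrime.ne_top ‹_›)
  have hp₀m : P₀.under A₀ ≤ maximalIdeal A₀ :=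
    IsLocalRing.le_maximalIdeal (Ideal.IsPrime.ne_top inferInstance)
  have hdA : IsDomain (A₀ ⧸ P₀.under A₀) := (Ideal.Quotient.isDomain_iff_prime _).mpr inferInstance
  have hdB : IsDomain (B₀ ⧸ P₀) := (Ideal.Quotient.isDomain_iff_prime _).mpr inferInstance
  have hlA : IsLocalRing (A₀ ⧸ P₀.under A₀) :=
    IsLocalRing.of_surjective' (Ideal.Quotient.mk _) Ideal.Quotient.mk_surjective
  have hlB : IsLocalRing (B₀ ⧸ P₀) :=
    IsLocalRing.of_surjective' (Ideal.Quotient.mk _) Ideal.Quotient.mk_surjective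
  have hmkA : ∀ a : A₀, algebraMap (A₀ ⧸ P₀.under A₀) (B₀ ⧸ P₀) (Ideal.Quotient.mk _ a) =
      Ideal.Quotient.mk P₀ (algebraMap A₀ B₀ a) := fun a => rfl
  have hfaith : FaithfulSMul (A₀ ⧸ P₀.under A₀) (B₀ ⧸ P₀) := inferInstance
  have hlocal : IsLocalHom (algebraMap (A₀ ⧸ P₀.under A₀) (B₀ ⧸ P₀)) := by
    constructor
    intro a ha
    obtain ⟨a, rfl⟩ := Ideal.Quotient.mk_surjective a
    rw [hmkA] at ha
    by_contra hna
    have h1 : a ∈ maximalIdeal A₀ := by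
      rw [IsLocalRing.mem_maximalIdeal]
      intro hu
      exact hna (hu.map _)
    have h2 : algebraMap A₀ B₀ a ∈ maximalIdeal B₀ := by
      rw [IsLocalRing.mem_maximalIdeal]
      intro hu
      exact (IsLocalRing.mem_maximalIdeal _).mp h1 (isUnit_of_map_unit (algebraMap A₀ B₀) a hu)
    have h3 : Ideal.Quotient.mk P₀ (algebraMap A₀ B₀ a) ∈ maximalIdeal (B₀ ⧸ P₀) := by
      rw [IsLocalRing.mem_maximalIdeal]
      intro hu
      have := (IsLocalRing.mem_maximalIdeal _).mp h2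
      apply this
      have hsurj : Function.Surjective (Ideal.Quotient.mk P₀) := Ideal.Quotient.mk_surjective
      have hl : IsLocalHom (Ideal.Quotient.mk P₀) := .of_surjective _ hsurj
      exact isUnit_of_map_unit (Ideal.Quotient.mk P₀) _ hu
    exact (IsLocalRing.mem_maximalIdeal _).mp h3 ha
  have hess : Algebra.EssFiniteType (A₀ ⧸ P₀.under A₀) (B₀ ⧸ P₀) := by
    have h1 : Algebra.EssFiniteType A₀ (B₀ ⧸ P₀) := inferInstance
    exact Algebra.EssFiniteType.of_comp A₀ _ _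
  have hmA : ∀ a : A₀, Ideal.Quotient.mk (P₀.under A₀) a ∈ maximalIdeal (A₀ ⧸ P₀.under A₀) ↔
      a ∈ maximalIdeal A₀ := by
    intro a
    have hl : IsLocalHom (Ideal.Quotient.mk (P₀.under A₀)) :=
      .of_surjective _ Ideal.Quotient.mk_surjective
    rw [IsLocalRing.mem_maximalIdeal, IsLocalRing.mem_maximalIdeal, mem_nonunits_iff,
      mem_nonunits_iff, isUnit_map_iff]
  have hmB : ∀ b : B₀, Ideal.Quotient.mk P₀ b ∈ maximalIdeal (B₀ ⧸ P₀) ↔
      b ∈ maximalIdeal B₀ := by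
    intro b
    have hl : IsLocalHom (Ideal.Quotient.mk P₀) :=
      .of_surjective _ Ideal.Quotient.mk_surjective
    rw [IsLocalRing.mem_maximalIdeal, IsLocalRing.mem_maximalIdeal, mem_nonunits_iff,
      mem_nonunits_iff, isUnit_map_iff]
  -- the fibre ideals
  have hI1 : Ideal.map (Ideal.Quotient.mk P₀) (Ideal.map (algebraMap A₀ B₀) (maximalIdeal A₀)) ≤
      Ideal.map (algebraMap (A₀ ⧸ P₀.under A₀) (B₀ ⧸ P₀)) (maximalIdeal (A₀ ⧸ P₀.under A₀)) := by
    rw [Ideal.map_map, Ideal.map_le_iff_le_comap]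
    intro a ha
    rw [Ideal.mem_comap, RingHom.comp_apply, ← hmkA]
    exact Ideal.mem_map_of_mem _ ((hmA a).mpr ha)
  have hI2 : Ideal.map (algebraMap (A₀ ⧸ P₀.under A₀) (B₀ ⧸ P₀)) (maximalIdeal (A₀ ⧸ P₀.under A₀)) ≤
      Ideal.map (Ideal.Quotient.mk P₀) (Ideal.map (algebraMap A₀ B₀) (maximalIdeal A₀)) := by
    rw [Ideal.map_le_iff_le_comap]
    intro a ha
    obtain ⟨a, rfl⟩ := Ideal.Quotient.mk_surjective a
    rw [Ideal.mem_comap, hmkA]
    exact Ideal.mem_map_of_mem _ (Ideal.mem_map_of_mem _ ((hmA a).mp ha))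
  have hIeq := le_antisymm hI2 hI1
  -- dimension of the fibre
  have hdB' : ringKrullDim ((B₀ ⧸ P₀) ⧸
      Ideal.map (algebraMap (A₀ ⧸ P₀.under A₀) (B₀ ⧸ P₀)) (maximalIdeal (A₀ ⧸ P₀.under A₀))) ≤ d := by
    refine le_trans ?_ hd
    have hle : Ideal.map (algebraMap A₀ B₀) (maximalIdeal A₀) ≤
        (Ideal.map (algebraMap (A₀ ⧸ P₀.under A₀) (B₀ ⧸ P₀))
          (maximalIdeal (A₀ ⧸ P₀.under A₀))).comap (Ideal.Quotient.mk P₀) := by
      rw [← Ideal.map_le_iff_le_comap]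
      exact hI1
    exact ringKrullDim_le_of_surjective (Ideal.quotientMap _ (Ideal.Quotient.mk P₀) hle)
      (Ideal.quotientMap_surjective Ideal.Quotient.mk_surjective)
  -- `g` avoids the minimal primes of the fibre of the quotient
  have hminB : ∀ Q ∈ (Ideal.map (algebraMap (A₀ ⧸ P₀.under A₀) (B₀ ⧸ P₀))
      (maximalIdeal (A₀ ⧸ P₀.under A₀))).minimalPrimes, Ideal.Quotient.mk P₀ g ∉ Q := by
    intro Q hQ hgQ
    have hQp : Q.IsPrime := hQ.1.1
    refine hmin (Q.comap (Ideal.Quotient.mk P₀)) ?_ hgQ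
    refine ⟨⟨inferInstance, ?_⟩, ?_⟩
    · rw [← Ideal.map_le_iff_le_comap]
      exact hI1.trans hQ.1.2
    · rintro Q' ⟨hQ'p, hQ'I⟩ hQ'le
      have hP₀Q' : P₀ ≤ Q' := hP₀ Q' hQ'p
      have hker : RingHom.ker (Ideal.Quotient.mk P₀) ≤ Q' := by rw [Ideal.mk_ker]; exact hP₀Q'
      have hQ'map : (Q'.map (Ideal.Quotient.mk P₀)).IsPrime :=
        Ideal.map_isPrime_of_surjective Ideal.Quotient.mk_surjective hker
      have h1 : Ideal.map (algebraMap (A₀ ⧸ P₀.under A₀) (B₀ ⧸ P₀))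
          (maximalIdeal (A₀ ⧸ P₀.under A₀)) ≤ Q'.map (Ideal.Quotient.mk P₀) :=
        hI2.trans (Ideal.map_mono hQ'I)
      have h2 : Q'.map (Ideal.Quotient.mk P₀) ≤ Q := by
        rw [Ideal.map_le_iff_le_comap]; exact hQ'le
      have h3 : Q ≤ Q'.map (Ideal.Quotient.mk P₀) := hQ.2 ⟨hQ'map, h1⟩ h2
      calc Q.comap (Ideal.Quotient.mk P₀)
          ≤ (Q'.map (Ideal.Quotient.mk P₀)).comap (Ideal.Quotient.mk P₀) := Ideal.comap_mono h3
        _ = Q' := by
          rw [Ideal.comap_map_of_surjective _ Ideal.Quotient.mk_surjective,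
            ← RingHom.ker_eq_comap_bot]
          exact sup_eq_left.mpr hker
  -- residue fields
  have heB : Algebra.trdeg (ResidueField (A₀ ⧸ P₀.under A₀)) (ResidueField (B₀ ⧸ P₀)) = e := by
    rw [← he]
    symm
    refine Groth.Agent.Lib.Helper55.trdeg_quotient_eq_of_hasFractions (maximalIdeal A₀)
      (maximalIdeal B₀)
      ((residue (A₀ ⧸ P₀.under A₀)).comp (Ideal.Quotient.mk _))
      ((residue (B₀ ⧸ P₀)).comp (Ideal.Quotient.mk P₀)) ?_ ?_ ?_ ?_ ?_
    · ext a; rfl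
    · ext a
      rw [RingHom.mem_ker, RingHom.comp_apply, IsLocalRing.residue_eq_zero_iff, hmA]
    · ext b
      rw [RingHom.mem_ker, RingHom.comp_apply, IsLocalRing.residue_eq_zero_iff, hmB]
    · intro z
      obtain ⟨a, rfl⟩ := IsLocalRing.residue_surjective z
      obtain ⟨a, rfl⟩ := Ideal.Quotient.mk_surjective a
      exact ⟨a, 1, by simp, by simp⟩
    · intro z
      obtain ⟨b, rfl⟩ := IsLocalRing.residue_surjective z
      obtain ⟨b, rfl⟩ := Ideal.Quotient.mk_surjective b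
      exact ⟨b, 1, by simp, by simp⟩
  -- apply the local core
  have hinj := injective_algebraMap_quotient_span_singleton (A := A₀ ⧸ P₀.under A₀) (B := B₀ ⧸ P₀)
    (Ideal.Quotient.mk P₀ g) ((hmB g).mpr hg) hminB d e hdB' heB hsum
  -- a prime containing `g` and meeting `A` trivially
  have hdisj : Disjoint
      ((Ideal.span {Ideal.Quotient.mk P₀ g} : Ideal (B₀ ⧸ P₀)) : Set (B₀ ⧸ P₀))
      ((Submonoid.map (algebraMap (A₀ ⧸ P₀.under A₀) (B₀ ⧸ P₀))
        (nonZeroDivisors (A₀ ⧸ P₀.under A₀)) : Submonoid (B₀ ⧸ P₀)) : Set (B₀ ⧸ P₀)) := by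
    rw [Set.disjoint_left]
    rintro _ hI ⟨a, ha, rfl⟩
    have h0 : algebraMap (A₀ ⧸ P₀.under A₀)
        ((B₀ ⧸ P₀) ⧸ Ideal.span {Ideal.Quotient.mk P₀ g}) a = 0 := by
      rw [IsScalarTower.algebraMap_apply _ (B₀ ⧸ P₀), Ideal.Quotient.algebraMap_eq,
        Ideal.Quotient.eq_zero_iff_mem]
      exact hI
    have : a = 0 := hinj (by rw [h0, map_zero])
    exact (nonZeroDivisors.ne_zero ha) this
  obtain ⟨Pb, hPbp, hPbI, hPbd⟩ := Ideal.exists_le_prime_disjoint _ _ hdisj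
  refine ⟨Pb.comap (Ideal.Quotient.mk P₀), inferInstance, ?_, ?_⟩
  · exact hPbI (Ideal.mem_span_singleton_self _)
  · ext a
    simp only [Ideal.under, Ideal.mem_comap]
    constructor
    · intro ha
      by_contra hna
      have hne : Ideal.Quotient.mk (P₀.under A₀) a ≠ 0 := by
        rwa [Ne, Ideal.Quotient.eq_zero_iff_mem]
      exact Set.disjoint_left.mp hPbd ha ⟨_, mem_nonZeroDivisors_of_ne_zero hne, (hmkA a)⟩
    · intro ha
      have : Ideal.Quotient.mk P₀ (algebraMap A₀ B₀ a) = 0 :=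
        Ideal.Quotient.eq_zero_iff_mem.mpr ha
      rw [this]
      exact Pb.zero_mem

end stalk

end Groth.Agent.Lib.Helper29.FibreDiv
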