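import Mathlib
import Groth.Agent.Lib.Helper29.FibreDiv.Stalk
import Groth.Agent.Lib.Helper55.FiberCompDim
import Groth.Agent.Lib.Helper55.DimFormulaIrred
import Groth.Agent.Lib.Helper55.TrdegBridge
import Groth.Agent.Lib.Helper55.ResidueFieldTrdeg

/-!
# Stacks 0B2I: a locally principal closed subscheme with empty generic fibre is vertical (helper29)
-/

set_option autoImplicit false
universe u

namespace Groth.Agent.Lib.Helper29.FibreDiv

open AlgebraicGeometry CategoryTheory IsLocalRing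

section dictionary

variable {X : Scheme.{u}}

/-- The prime of `𝒪_{X,x}` corresponding to a generalization `x'` of `x`. -/
noncomputable def primeOf {x' x : X} (h : x' ⤳ x) : Ideal (X.presheaf.stalk x) :=
  (maximalIdeal (X.presheaf.stalk x')).comap (X.presheaf.stalkSpecializes h).hom

instance {x' x : X} (h : x' ⤳ x) : (primeOf h).IsPrime := by
  unfold primeOf
  infer_instance

theorem fromSpecStalk_primeOf {x' x : X} (h : x' ⤳ x) :
    X.fromSpecStalk x ⟨primeOf h, inferInstance⟩ = x' := by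
  have h1 := Scheme.SpecMap_stalkSpecializes_fromSpecStalk h
  have h2 := congrArg (fun φ => φ (closedPoint (X.presheaf.stalk x'))) h1
  simp only [Scheme.fromSpecStalk_closedPoint] at h2
  exact h2

theorem exists_eq_primeOf {x : X} (P : Ideal (X.presheaf.stalk x)) [hP : P.IsPrime] :
    ∃ (x' : X) (h : x' ⤳ x), P = primeOf h := by
  have hmem : X.fromSpecStalk x ⟨P, hP⟩ ∈ Set.range (X.fromSpecStalk x) := ⟨_, rfl⟩
  rw [Scheme.range_fromSpecStalk] at hmem
  refine ⟨_, hmem, ?_⟩
  have h1 := fromSpecStalk_primeOf hmem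
  have hinj : Function.Injective (X.fromSpecStalk x) :=
    (X.fromSpecStalk x).isEmbedding.injective
  exact congrArg PrimeSpectrum.asIdeal (hinj h1).symm

theorem primeOf_le_iff {x' x'' x : X} (h' : x' ⤳ x) (h'' : x'' ⤳ x) :
    primeOf h' ≤ primeOf h'' ↔ x' ⤳ x'' := by
  have h1 : (⟨primeOf h', inferInstance⟩ : PrimeSpectrum (X.presheaf.stalk x)) ≤
      ⟨primeOf h'', inferInstance⟩ ↔ primeOf h' ≤ primeOf h'' := Iff.rfl
  have h2 := (X.fromSpecStalk x).isEmbedding.isInducing.specializes_iff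
    (x := (⟨primeOf h', inferInstance⟩ : PrimeSpectrum (X.presheaf.stalk x)))
    (y := (⟨primeOf h'', inferInstance⟩ : PrimeSpectrum (X.presheaf.stalk x)))
  rw [fromSpecStalk_primeOf, fromSpecStalk_primeOf] at h2
  rw [← h1, PrimeSpectrum.le_iff_specializes]
  exact h2.symm

theorem primeOf_eq_iff {x' x'' x : X} (h' : x' ⤳ x) (h'' : x'' ⤳ x) :
    primeOf h' = primeOf h'' ↔ x' = x'' := by
  constructor
  · intro h
    exact (((primeOf_le_iff h' h'').mp h.le).antisymm ((primeOf_le_iff h'' h').mp h.ge)).eq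
  · rintro rfl
    rfl

theorem primeOf_self_eq {x' x : X} (h : x' ⤳ x) (hx : x' = x) :
    primeOf h = maximalIdeal (X.presheaf.stalk x) := by
  subst hx
  obtain ⟨y, hy, hmax⟩ := exists_eq_primeOf (maximalIdeal (X.presheaf.stalk x'))
  have h1 : primeOf h ≤ primeOf hy := by
    rw [← hmax]
    exact IsLocalRing.le_maximalIdeal (Ideal.IsPrime.ne_top inferInstance)
  have h2 : x' ⤳ y := (primeOf_le_iff h hy).mp h1
  have h3 : y = x' := (hy.antisymm h2).eq
  rw [hmax]
  exact (primeOf_eq_iff h hy).mpr h3.symm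

end dictionary

section functoriality

variable {X S : Scheme.{u}} (f : X ⟶ S)

theorem comap_stalkMap_primeOf {x' x : X} (h : x' ⤳ x) (h' : f x' ⤳ f x) :
    (primeOf h).comap (f.stalkMap x).hom = primeOf h' := by
  have hc := Scheme.Hom.stalkSpecializes_stalkMap f x' x h
  have hloc : (maximalIdeal (X.presheaf.stalk x')).comap (f.stalkMap x').hom =
      maximalIdeal (S.presheaf.stalk (f x')) :=
    IsLocalRing.maximalIdeal_comap (f.stalkMap x').hom
  unfold primeOf
  rw [Ideal.comap_comap, ← hloc, Ideal.comap_comap]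
  congr 1
  have := congrArg CommRingCat.Hom.hom hc
  simpa using this.symm

end functoriality

section support

variable {X : Scheme.{u}}

theorem mem_support_iff_germ_mem_primeOf (Z : X.IdealSheafData) {U : X.Opens}
    (hU : IsAffineOpen U) (gU : Γ(X, U)) (hZ : Z.ideal ⟨U, hU⟩ = Ideal.span {gU}) {x' x : X}
    (hxU : x ∈ U) (h : x' ⤳ x) :
    x' ∈ (Z.support : Set X) ↔ (X.presheaf.germ U x hxU).hom gU ∈ primeOf h := by
  have hx'U : x' ∈ U := h.mem_open U.2 hxU
  rw [SetLike.mem_coe, Scheme.IdealSheafData.mem_support_iff_of_mem (U := ⟨U, hU⟩) hx'U, hZ,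
    Scheme.mem_zeroLocus_iff]
  unfold primeOf
  rw [Ideal.mem_comap, IsLocalRing.mem_maximalIdeal, mem_nonunits_iff]
  have hgerm : (X.presheaf.stalkSpecializes h).hom ((X.presheaf.germ U x hxU).hom gU) =
      (X.presheaf.germ U x' hx'U).hom gU := by
    have := TopCat.Presheaf.germ_stalkSpecializes X.presheaf hxU h
    exact congr($this gU)
  rw [hgerm]
  constructor
  · intro H hu
    exact H gU (Ideal.mem_span_singleton_self _) ((Scheme.mem_basicOpen X gU x' hx'U).mpr hu)
  · intro H f' hf' hmem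
    rw [SetLike.mem_coe, Ideal.mem_span_singleton'] at hf'
    obtain ⟨c, rfl⟩ := hf'
    have hu := (Scheme.mem_basicOpen X _ x' hx'U).mp hmem
    rw [map_mul] at hu
    exact H (isUnit_of_mul_isUnit_right hu)

end support

section components

theorem exists_irreducibleComponent_of_maximal {X : Type*} [TopologicalSpace X] (T : Set X)
    [QuasiSober T] (q x : T) (hqx : (q : X) ⤳ (x : X))
    (hmax : ∀ y : T, (y : X) ⤳ (q : X) → y = q) (Zc : Set X) (hZc : IsClosed Zc)
    (hq : (q : X) ∈ Zc) :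
    ∃ C ∈ irreducibleComponents T, x ∈ C ∧ Subtype.val '' C ⊆ Zc := by
  have hsp : ∀ a b : T, a ⤳ b ↔ (a : X) ⤳ (b : X) := fun a b =>
    (Topology.IsInducing.subtypeVal.specializes_iff).symm
  refine ⟨closure {q}, ⟨isIrreducible_singleton.closure, ?_⟩, ?_, ?_⟩
  · intro C' hC' hle
    obtain ⟨q', hq'⟩ := QuasiSober.sober hC'.closure isClosed_closure
    have h1 : q ∈ closure ({q'} : Set T) := by
      rw [hq'.def]
      exact subset_closure (hle (subset_closure rfl))
    have h2 : q' ⤳ q := specializes_iff_mem_closure.mpr h1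
    have h3 : q' = q := hmax q' ((hsp q' q).mp h2)
    rw [h3] at hq'
    intro c hc
    have : c ∈ closure C' := subset_closure hc
    rw [← hq'.def] at this
    exact this
  · exact specializes_iff_mem_closure.mp ((hsp q x).mpr hqx)
  · rintro _ ⟨c, hc, rfl⟩
    have h1 : q ⤳ c := specializes_iff_mem_closure.mpr hc
    exact ((hsp q c).mp h1).mem_closed hZc hq

end components

section evaluation

open Groth.Agent.Lib.Helper55

variable {X : Scheme.{u}}

/-- Evaluation of germs at `x` in the residue field of a generalization `x'`. -/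
noncomputable def evalAt {x' x : X} (h : x' ⤳ x) : X.presheaf.stalk x →+* X.residueField x' :=
  (X.residue x').hom.comp (X.presheaf.stalkSpecializes h).hom

theorem ker_evalAt {x' x : X} (h : x' ⤳ x) : RingHom.ker (evalAt h) = primeOf h := by
  ext a
  unfold evalAt primeOf
  rw [RingHom.mem_ker, RingHom.comp_apply, Ideal.mem_comap]
  exact IsLocalRing.residue_eq_zero_iff _

theorem evalAt_germ {x' x : X} (h : x' ⤳ x) {U : X.Opens} (hxU : x ∈ U) (t : Γ(X, U)) :
    evalAt h ((X.presheaf.germ U x hxU).hom t) = evalResidue X U x' (h.mem_open U.2 hxU) t := by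
  unfold evalAt evalResidue
  rw [RingHom.comp_apply, RingHom.comp_apply]
  have := TopCat.Presheaf.germ_stalkSpecializes X.presheaf hxU h
  rw [← congr($this t)]
  rfl

theorem hasFractions_evalAt {x' x : X} (h : x' ⤳ x) : HasFractions (evalAt h) := by
  obtain ⟨U, hU, hxU, -⟩ := exists_isAffineOpen_mem_and_subset (x := x) (U := ⊤) trivial
  intro z
  obtain ⟨a, s, hs, hz⟩ := evalResidue_fraction X U hU x' (h.mem_open U.2 hxU) z
  refine ⟨(X.presheaf.germ U x hxU).hom a, (X.presheaf.germ U x hxU).hom s, ?_, ?_⟩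
  · rw [evalAt_germ]; exact hs
  · rw [evalAt_germ, evalAt_germ]; exact hz

theorem evalAt_comp_stalkMap {S : Scheme.{u}} (f : X ⟶ S) {x' x : X} (h : x' ⤳ x)
    (h' : f x' ⤳ f x) :
    (f.residueFieldMap x').hom.comp (evalAt h') = (evalAt h).comp (f.stalkMap x).hom := by
  have hc := Scheme.Hom.stalkSpecializes_stalkMap f x' x h
  have hr := Scheme.residue_residueFieldMap f x'
  ext a
  unfold evalAt
  simp only [RingHom.comp_apply]
  have h1 := congr($hc a)
  have h2 := congr($hr ((S.presheaf.stalkSpecializes h').hom a))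
  simp only [CommRingCat.comp_apply] at h1 h2
  rw [← h1]
  exact h2

end evaluation

section main

open Groth.Agent.Lib.Helper55

theorem localDim_le_topologicalKrullDim (T : Type*) [TopologicalSpace T] (t : T) :
    FlatMor.localDim T t ≤ topologicalKrullDim T := by
  unfold FlatMor.localDim
  refine le_trans (iInf_le _ ⟨⊤, trivial⟩) ?_
  exact Topology.IsInducing.subtypeVal.topologicalKrullDim_le

theorem exists_nat_le_of_add_le {D : WithBot ℕ∞} (hD : 0 ≤ D) {n m : ℕ}
    (h : D + (n : WithBot ℕ∞) ≤ (m : WithBot ℕ∞)) :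
    ∃ d : ℕ, D ≤ (d : WithBot ℕ∞) ∧ d + n ≤ m := by
  induction D with
  | bot => exact absurd hD (by simp)
  | coe D =>
    induction D with
    | top =>
      exfalso
      have : ((⊤ : ℕ∞) : WithBot ℕ∞) + (n : WithBot ℕ∞) = ((⊤ : ℕ∞) : WithBot ℕ∞) := by
        rw [show ((n : WithBot ℕ∞)) = ((n : ℕ∞) : WithBot ℕ∞) from rfl, ← WithBot.coe_add]
        simp
      rw [this] at h
      have h2 : ((⊤ : ℕ∞) : WithBot ℕ∞) ≤ ((m : ℕ∞) : WithBot ℕ∞) := h
      rw [WithBot.coe_le_coe] at h2
      simp at h2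
    | coe k =>
      refine ⟨k, le_rfl, ?_⟩
      have h2 : (((k + n : ℕ) : ℕ∞) : WithBot ℕ∞) ≤ ((m : ℕ∞) : WithBot ℕ∞) := by
        push_cast
        exact h
      rw [WithBot.coe_le_coe] at h2
      exact_mod_cast h2

end main

section main2

open Groth.Agent.Lib.Helper55 Cardinal

variable {X S : Scheme.{u}} (f : X ⟶ S) [IrreducibleSpace ↑S] [IrreducibleSpace ↑X]
  [IsDominant f] [LocallyOfFiniteType f]

/-- Key algebraic step of Stacks 0B2I at a point `x` of `Z`: some minimal prime of the local ring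
of the fibre at `x` contains the local equation of `Z`. -/
theorem exists_minimalPrimes_mem (x : X)
    (hdim : topologicalKrullDim ↑(f.fiber (f x)) ≤ topologicalKrullDim ↑(f.fiber (genericPoint ↑S)))
    (Z : X.IdealSheafData) {U : X.Opens} (hU : IsAffineOpen U) (gU : Γ(X, U))
    (hZU : Z.ideal ⟨U, hU⟩ = Ideal.span {gU}) (hxU : x ∈ U)
    (hη : ∀ x ∈ (Z.support : Set ↑X), f x ≠ genericPoint ↑S)
    (hxZ : x ∈ (Z.support : Set ↑X)) :
    ∃ Q ∈ (Ideal.map (f.stalkMap x).hom (maximalIdeal (S.presheaf.stalk (f x)))).minimalPrimes,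
      (X.presheaf.germ U x hxU).hom gU ∈ Q := by
  classical
  by_contra hcon
  push Not at hcon
  have hf : DenseRange f := f.denseRange
  have hξx : genericPoint ↑X ⤳ x := genericPoint_specializes x
  have hfξ : f (genericPoint ↑X) = genericPoint ↑S := map_genericPoint_eq_of_denseRange f hf
  have hfξx : f (genericPoint ↑X) ⤳ f x := hξx.map f.continuous
  let _ : Algebra (S.presheaf.stalk (f x)) (X.presheaf.stalk x) := (f.stalkMap x).hom.toAlgebra
  have hloc : IsLocalHom (algebraMap (S.presheaf.stalk (f x)) (X.presheaf.stalk x)) :=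
    inferInstanceAs (IsLocalHom (f.stalkMap x).hom)
  have hess : Algebra.EssFiniteType (S.presheaf.stalk (f x)) (X.presheaf.stalk x) :=
    LocallyOfFiniteType.stalkMap f x
  -- `g` lies in the maximal ideal
  have hg : (X.presheaf.germ U x hxU).hom gU ∈ maximalIdeal (X.presheaf.stalk x) := by
    rw [← primeOf_self_eq (specializes_refl x) rfl]
    exact (mem_support_iff_germ_mem_primeOf Z hU gU hZU hxU (specializes_refl x)).mp hxZ
  -- the generic prime
  have hP₀ : ∀ Q : Ideal (X.presheaf.stalk x), Q.IsPrime → primeOf hξx ≤ Q := by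
    intro Q hQ
    obtain ⟨y, hy, rfl⟩ := exists_eq_primeOf Q
    exact (primeOf_le_iff hξx hy).mpr (genericPoint_specializes y)
  have hunder : (primeOf hξx).under (S.presheaf.stalk (f x)) = primeOf hfξx :=
    comap_stalkMap_primeOf f hξx hfξx
  -- dimension inequality
  obtain ⟨n, hn, hfd⟩ := fibreDimAt_eq_stalk_add_trdeg f x
  obtain ⟨m, hm1, hm2⟩ := exists_dim_genericFiber_eq_trdeg f hf
  have hle : FlatMor.fibreDimAt f x ≤ (m : WithBot ℕ∞) := by
    rw [← hm1]
    exact (localDim_le_topologicalKrullDim _ _).trans hdim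
  rw [hfd] at hle
  have hnt : Nontrivial (X.presheaf.stalk x ⧸ Ideal.map (f.stalkMap x).hom
      (maximalIdeal (S.presheaf.stalk (f x)))) := by
    rw [Ideal.Quotient.nontrivial_iff]
    exact (IsLocalRing.map_maximalIdeal_lt_top (f.stalkMap x).hom).ne
  obtain ⟨d, hd, hdn⟩ := exists_nat_le_of_add_le ringKrullDim_nonneg_of_nontrivial hle
  -- transcendence degree bridge
  let _ : Algebra (S.residueField (f (genericPoint ↑X))) (X.residueField (genericPoint ↑X)) :=
    (f.residueFieldMap (genericPoint ↑X)).hom.toAlgebra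
  have hlies : (primeOf hξx).LiesOver (primeOf hfξx) := ⟨hunder.symm⟩
  have hbridge := trdeg_quotient_eq_of_hasFractions
    ((primeOf hξx).under (S.presheaf.stalk (f x))) (primeOf hξx)
    (evalAt hfξx) (evalAt hξx) (evalAt_comp_stalkMap f hξx hfξx)
    ((ker_evalAt hfξx).trans hunder.symm)
    (ker_evalAt hξx) (hasFractions_evalAt hfξx) (hasFractions_evalAt hξx)
  have hsum : ((d + n : ℕ) : Cardinal.{u}) ≤
      Algebra.trdeg (S.presheaf.stalk (f x) ⧸ (primeOf hξx).under (S.presheaf.stalk (f x)))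
        (X.presheaf.stalk x ⧸ primeOf hξx) := by
    rw [hbridge, hm2]
    exact_mod_cast hdn
  have hn' : Algebra.trdeg (ResidueField (S.presheaf.stalk (f x)))
      (ResidueField (X.presheaf.stalk x)) = n := by
    rw [← hn]
    congr 1
  obtain ⟨P, hPp, hgP, hPu⟩ := exists_prime_mem_under_eq (primeOf hξx) hP₀
    ((X.presheaf.germ U x hxU).hom gU) hg hcon d n hd hn' hsum
  obtain ⟨x', hx', rfl⟩ := exists_eq_primeOf P
  have hx'Z : x' ∈ (Z.support : Set ↑X) :=
    (mem_support_iff_germ_mem_primeOf Z hU gU hZU hxU hx').mpr hgP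
  have hfx' : f x' ⤳ f x := hx'.map f.continuous
  have h1 : primeOf hfx' = primeOf hfξx := by
    rw [← comap_stalkMap_primeOf f hx' hfx', ← hunder]
    exact hPu
  have h2 : f x' = f (genericPoint ↑X) := (primeOf_eq_iff hfx' hfξx).mp h1
  exact hη x' hx'Z (h2.trans hfξ)

end main2

section main3

variable {X S : Scheme.{u}} (f : X ⟶ S) [IrreducibleSpace ↑S] [IrreducibleSpace ↑X]
  [IsDominant f] [LocallyOfFiniteType f]

/-- **Stacks 0B2I.** -/
theorem exists_irreducibleComponent_subset_support (s : S)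
    (hdim : topologicalKrullDim ↑(f.fiber s) ≤ topologicalKrullDim ↑(f.fiber (genericPoint ↑S)))
    (Z : X.IdealSheafData)
    (hZ : ∀ x : X, ∃ (U : X.Opens) (hU : IsAffineOpen U) (g : Γ(X, U)),
      x ∈ U ∧ Z.ideal ⟨U, hU⟩ = Ideal.span {g})
    (hη : ∀ x ∈ (Z.support : Set ↑X), f x ≠ genericPoint ↑S)
    (x : ↑(f ⁻¹' {s})) (hxZ : (x : ↑X) ∈ (Z.support : Set ↑X)) :
    ∃ C ∈ irreducibleComponents ↑(f ⁻¹' {s}), x ∈ C ∧
      Subtype.val '' C ⊆ (Z.support : Set ↑X) := by
  obtain ⟨x, hxs⟩ := x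
  have hxs' : f x = s := hxs
  subst hxs'
  obtain ⟨U, hU, gU, hxU, hZU⟩ := hZ x
  obtain ⟨Q, hQmin, hgQ⟩ := exists_minimalPrimes_mem f x hdim Z hU gU hZU hxU hη hxZ
  have hQp : Q.IsPrime := hQmin.1.1
  obtain ⟨xq, hxq, rfl⟩ := exists_eq_primeOf Q
  have hfxq : f xq ⤳ f x := hxq.map f.continuous
  -- `xq` lies in the fibre
  have hmax_le : maximalIdeal (S.presheaf.stalk (f x)) ≤ primeOf hfxq := by
    rw [← comap_stalkMap_primeOf f hxq hfxq, ← Ideal.map_le_iff_le_comap]
    exact hQmin.1.2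
  have hfib : f xq = f x := by
    have h1 : primeOf hfxq = maximalIdeal (S.presheaf.stalk (f x)) :=
      le_antisymm (IsLocalRing.le_maximalIdeal (Ideal.IsPrime.ne_top inferInstance)) hmax_le
    rw [← primeOf_self_eq (specializes_refl (f x)) rfl] at h1
    exact (primeOf_eq_iff hfxq (specializes_refl (f x))).mp h1
  have hxqZ : xq ∈ (Z.support : Set ↑X) :=
    (mem_support_iff_germ_mem_primeOf Z hU gU hZU hxU hxq).mpr hgQ
  have hqs : QuasiSober ↑(f ⁻¹' {f x}) :=
    (f.fiberHomeo (f x)).symm.isClosedEmbedding.quasiSober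
  refine exists_irreducibleComponent_of_maximal (f ⁻¹' {f x}) ⟨xq, hfib⟩ ⟨x, hxs⟩ hxq ?_
    (Z.support : Set ↑X) Z.support.isClosed hxqZ
  rintro ⟨y, hy⟩ hyq
  have hy' : f y = f x := hy
  have hyx : y ⤳ x := hyq.trans hxq
  have hfyx : f y ⤳ f x := hyx.map f.continuous
  -- `primeOf hyx` contains the fibre ideal
  have h1 : Ideal.map (f.stalkMap x).hom (maximalIdeal (S.presheaf.stalk (f x))) ≤ primeOf hyx := by
    rw [Ideal.map_le_iff_le_comap, comap_stalkMap_primeOf f hyx hfyx, primeOf_self_eq hfyx hy']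
  have h2 : primeOf hyx ≤ primeOf hxq := (primeOf_le_iff hyx hxq).mpr hyq
  have h3 : primeOf hxq ≤ primeOf hyx := hQmin.2 ⟨inferInstance, h1⟩ h2
  have h4 : xq ⤳ y := (primeOf_le_iff hxq hyx).mp h3
  exact Subtype.ext (hyq.antisymm h4).eq

end main3

end Groth.Agent.Lib.Helper29.FibreDiv
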